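import Mathlib.FieldTheory.IntermediateField.Adjoin.Algebra
import Mathlib.RingTheory.AlgebraicIndependent.AlgebraicClosure
import Mathlib.RingTheory.AlgebraicIndependent.TranscendenceBasis
import Mathlib.SetTheory.Cardinal.Finite

/-!
# Linear relations lower the transcendence degree (helper985)

Node TRDEG of S17228.
-/

set_option autoImplicit false
universe u
open Cardinal

namespace K985.TrLin

theorem trdeg_le_mk {K F : Type u} [Field K] [Field F] [Algebra K F] (s : Set F)
    (h : IntermediateField.adjoin K s = ⊤) : Algebra.trdeg K F ≤ #s := by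
  have : Algebra.IsAlgebraic (IntermediateField.adjoin K s) F := by
    rw [h]
    exact ⟨fun x => isAlgebraic_algebraMap (⟨x, trivial⟩ : (⊤ : IntermediateField K F))⟩
  have : Algebra.IsAlgebraic (Algebra.adjoin K s) F :=
    IntermediateField.isAlgebraic_adjoin_iff_top.mp this
  exact Algebra.IsAlgebraic.trdeg_le_cardinalMk K s

theorem trdeg_add_le {K F : Type u} [Field K] [Field F] [Algebra K F] {k : ℕ} {n : Fin k → ℕ}
    (a : ∀ i, Fin (n i) → F)
    (hgen : IntermediateField.adjoin K (⋃ i, Set.range (a i)) = ⊤)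
    (f : ∀ i, Fin (n i) → K) (hf : ∀ i, ∃ j, f i j ≠ 0)
    (hrel : ∀ i, ∑ j, algebraMap K F (f i j) * a i j = 0) :
    Algebra.trdeg K F + k ≤ ∑ i, (n i : Cardinal.{u}) := by
  classical
  choose j hj using hf
  -- the remaining generators
  let T : Finset (Σ i, Fin (n i)) := Finset.univ.filter fun p => p.2 ≠ j p.1
  let s' : Finset F := T.image fun p : Σ i, Fin (n i) => a p.1 p.2
  let s : Set F := s'
  have hs : IntermediateField.adjoin K s = ⊤ := by
    rw [eq_top_iff, ← hgen, IntermediateField.adjoin_le_iff]
    rintro x hx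
    obtain ⟨i, hx⟩ := Set.mem_iUnion.mp hx
    obtain ⟨l, rfl⟩ := hx
    have hmem : ∀ l, l ≠ j i → a i l ∈ IntermediateField.adjoin K s := fun l hl =>
      IntermediateField.subset_adjoin K s (Finset.mem_coe.mpr (Finset.mem_image.mpr
        ⟨⟨i, l⟩, by simpa [T] using hl, rfl⟩))
    by_cases hl : l = j i
    · subst hl
      have h1 := hrel i
      rw [← Finset.add_sum_erase _ _ (Finset.mem_univ (j i))] at h1
      have h2 : ∑ l ∈ Finset.univ.erase (j i), algebraMap K F (f i l) * a i l ∈ IntermediateField.adjoin K s := by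
        refine sum_mem fun l hl => mul_mem (IntermediateField.algebraMap_mem _ _) (hmem l (Finset.ne_of_mem_erase hl))
      have h3 : algebraMap K F (f i (j i)) ≠ 0 := by
        rw [Ne, map_eq_zero]
        exact hj i
      have h4 : a i (j i) = (algebraMap K F (f i (j i)))⁻¹ *
          -∑ l ∈ Finset.univ.erase (j i), algebraMap K F (f i l) * a i l := by
        rw [← eq_neg_of_add_eq_zero_left h1, inv_mul_cancel_left₀ h3]
      rw [h4]
      exact mul_mem (inv_mem (IntermediateField.algebraMap_mem _ _)) (neg_mem h2)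
    · exact hmem l hl
  have h1 : Algebra.trdeg K F ≤ (T.card : Cardinal.{u}) := by
    refine (trdeg_le_mk s hs).trans ?_
    have h2 : #s = s'.card := Cardinal.mk_coe_finset
    rw [h2]
    exact_mod_cast Finset.card_image_le
  have h2 : T.card + k = ∑ i, n i := by
    have h3 : (Finset.univ.filter fun p : Σ i, Fin (n i) => ¬ p.2 ≠ j p.1).card = k := by
      have h5 : (Finset.univ.filter fun p : Σ i, Fin (n i) => ¬ p.2 ≠ j p.1) =
          Finset.univ.image fun i => (⟨i, j i⟩ : Σ i, Fin (n i)) := by
        ext ⟨i, l⟩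
        simp only [ne_eq, not_not, Finset.mem_filter, Finset.mem_univ, true_and, Finset.mem_image, Sigma.mk.injEq]
        constructor
        · rintro rfl
          exact ⟨i, rfl, HEq.rfl⟩
        · rintro ⟨i', rfl, h⟩
          exact (eq_of_heq h).symm
      rw [h5, Finset.card_image_of_injective _ fun i i' h => (Sigma.mk.inj_iff.mp h).1]
      simp
    have h4 := Finset.card_filter_add_card_filter_not (s := (Finset.univ : Finset (Σ i, Fin (n i))))
      (fun p => p.2 ≠ j p.1)
    rw [h3] at h4
    rw [h4, Finset.card_univ, Fintype.card_sigma]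
    simp
  calc Algebra.trdeg K F + k ≤ (T.card : Cardinal.{u}) + k := by gcongr
    _ = ((T.card + k : ℕ) : Cardinal.{u}) := by push_cast; rfl
    _ = ∑ i, (n i : Cardinal.{u}) := by rw [h2]; push_cast; rfl

end K985.TrLin
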