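import Groth.Prelude.Def_Dual3
import Groth.Agent.IntSh.K879.FibDim
import Groth.Agent.CycB.RelDim2

/-!
# Transcendence degree of the residue fields on the support of a coherent module (helper985)

Node SUPPTR of S17228.
-/

set_option autoImplicit false
universe u
open CategoryTheory CategoryTheory.Limits AlgebraicGeometry TopologicalSpace

namespace K985.SuppTr

open Groth.Agent Groth.Agent.CycB.RelDim K879.FibDim

theorem rtd_le {X S : Scheme.{u}} (f : X ⟶ S) [LocallyOfFiniteType f] (n : ℕ) (x : X)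
    (hn : topologicalKrullDim ↑(f.fiber (f x)) ≤ n) : rtd f x ≤ n := by
  obtain ⟨m, hm, hm'⟩ := exists_dim_closure_fiber f (f x) (f.asFiber x)
  rw [f.fiberι_asFiber x] at hm
  rw [hm]
  have := (topologicalKrullDim_subspace_le (f.fiber (f x)) (closure {f.asFiber x})).trans hn
  rw [hm'] at this
  exact_mod_cast this

theorem dim_fiber_le {X Y : Scheme.{u}} (π : X ⟶ Y) {F : X.Modules} (hF : Coh.IsCoh F) (y : Y) :
    topologicalKrullDim ↥((inc hF ≫ π).fiber y) ≤
      topologicalKrullDim ↥(CohB1.support F ∩ π.base ⁻¹' {y}) := by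
  rw [FlatA.FibreDim.topologicalKrullDim_fiber_eq]
  let φ : ((inc hF ≫ π : Sup hF ⟶ Y) : Sup hF → Y) ⁻¹' {y} → ↥(CohB1.support F ∩ π.base ⁻¹' {y}) :=
    fun w => ⟨inc hF w.1, by rw [← range_inc hF]; exact ⟨w.1, rfl⟩, w.2⟩
  have hφ : Topology.IsInducing φ := by
    have h2 : Topology.IsInducing (fun w : ((inc hF ≫ π : Sup hF ⟶ Y) : Sup hF → Y) ⁻¹' {y} => inc hF w.1) :=
      (inc hF).isEmbedding.isInducing.comp Topology.IsInducing.subtypeVal
    exact Topology.IsInducing.of_comp_iff Topology.IsInducing.subtypeVal |>.1 h2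
  exact hφ.topologicalKrullDim_le

theorem resTrdeg_le {X Y : Scheme.{u}} (π : X ⟶ Y) [LocallyOfFiniteType π] (F : X.Modules) (hF : Coh.IsCoh F)
    (d : ℕ) (hd : ∀ y : Y, topologicalKrullDim ↥(CohB1.support F ∩ π.base ⁻¹' {y}) ≤ d) (x : X)
    (hx : x ∈ CohB1.support F) : Dual3.resTrdeg π x ≤ d := by
  rw [← range_inc hF] at hx
  obtain ⟨z, rfl⟩ := hx
  have h1 : rtd (inc hF ≫ π) z ≤ d := rtd_le (inc hF ≫ π) d z ((dim_fiber_le π hF _).trans (hd _))
  rw [rtd_comp] at h1
  exact le_self_add.trans h1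

end K985.SuppTr
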